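-- Words for a copy of the Janko group and of the Mathieu group in the presented O'Nan group.
import Cfsg.Agent.Lib.Compute.TC.ONC.Chain
set_option autoImplicit false
set_option maxRecDepth 1000000

open Cfsg.Agent.Lib.Compute.ToddCoxeterCore Cfsg.Agent.Lib.Compute.ToddCoxeterPresented Cfsg.Agent.Lib.Compute.TCFast Cfsg.Agent.Lib.Compute.TCChain

namespace Cfsg.Agent.Lib.Compute.TC.ONSubD

/-- the involution -/
def aP : PE := .lt (nat_lit 2)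

/-- the element of order three -/
def bJ : PE := .mul (.lt (nat_lit 0)) (.mul (.lt (nat_lit 0)) (.mul (.lt (nat_lit 5)) (.mul (.lt (nat_lit 3)) (.mul (.lt (nat_lit 4)) (.mul (.lt (nat_lit 0)) (.mul (.lt (nat_lit 2)) (.mul (.lt (nat_lit 6)) (.mul (.lt (nat_lit 5)) (.mul (.lt (nat_lit 3)) (.mul (.lt (nat_lit 7)) (.mul (.lt (nat_lit 3)) (.mul (.lt (nat_lit 0)) (.mul (.lt (nat_lit 4)) (.mul (.lt (nat_lit 1)) (.mul (.lt (nat_lit 7)) (.mul (.lt (nat_lit 6)) (.mul (.lt (nat_lit 2)) (.mul (.lt (nat_lit 3)) (.mul (.lt (nat_lit 5)) (.mul (.lt (nat_lit 6)) (.mul (.lt (nat_lit 3)) (.mul (.lt (nat_lit 7)) (.mul (.lt (nat_lit 1)) (.mul (.lt (nat_lit 4)) (.mul (.lt (nat_lit 2)) (.mul (.lt (nat_lit 0)) (.mul (.lt (nat_lit 5)) (.mul (.lt (nat_lit 2)) (.mul (.lt (nat_lit 7)) (.mul (.lt (nat_lit 1)) (.mul (.lt (nat_lit 4)) (.mul (.lt (nat_lit 3))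 (.mul (.lt (nat_lit 1)) (.mul (.lt (nat_lit 6)) (.mul (.lt (nat_lit 4)) (.mul (.lt (nat_lit 3)) (.mul (.lt (nat_lit 4)) (.mul (.lt (nat_lit 2)) (.mul (.lt (nat_lit 7)) (.mul (.lt (nat_lit 1)) (.mul (.lt (nat_lit 2)) (.mul (.lt (nat_lit 7)) (.mul (.lt (nat_lit 2)) (.mul (.lt (nat_lit 6)) (.mul (.lt (nat_lit 0)) (.mul (.lt (nat_lit 3)) (.mul (.lt (nat_lit 5)) (.mul (.lt (nat_lit 4)) (.mul (.lt (nat_lit 5)) (.mul (.lt (nat_lit 3)) (.mul (.lt (nat_lit 1)) (.mul (.lt (nat_lit 6)) (.mul (.lt (nat_lit 1)) (.mul (.lt (nat_lit 4)) (.mul (.lt (nat_lit 1)) (.mul (.lt (nat_lit 6)) (.mul (.lt (nat_lit 1)) (.mul (.lt (nat_lit 4)) (.mul (.lt (nat_lit 3)) (.mul (.lt (nat_lit 5)) (.mul (.lt (nat_lit 4)) (.mul (.lt (nat_lit 5)) (.mul (.lt (nat_lit 3)) (.mul (.lt (nat_lit 1)) (.mul (.lt (nat_lit 6)) (.mul (.lt (nat_lit 2)) (.mul (.lt (nat_lit 7))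 (.mul (.lt (nat_lit 2)) (.mul (.lt (nat_lit 0)) (.mul (.lt (nat_lit 7)) (.mul (.lt (nat_lit 2)) (.mul (.lt (nat_lit 4)) (.mul (.lt (nat_lit 3)) (.mul (.lt (nat_lit 4)) (.mul (.lt (nat_lit 6)) (.mul (.lt (nat_lit 0)) (.mul (.lt (nat_lit 3)) (.mul (.lt (nat_lit 4)) (.mul (.lt (nat_lit 0)) (.mul (.lt (nat_lit 7)) (.mul (.lt (nat_lit 2)) (.mul (.lt (nat_lit 5)) (.mul (.lt (nat_lit 1)) (.mul (.lt (nat_lit 2)) (.mul (.lt (nat_lit 4)) (.mul (.lt (nat_lit 0)) (.mul (.lt (nat_lit 7)) (.mul (.lt (nat_lit 3)) (.mul (.lt (nat_lit 6)) (.mul (.lt (nat_lit 5)) (.mul (.lt (nat_lit 3)) (.mul (.lt (nat_lit 2)) (.mul (.lt (nat_lit 6)) (.mul (.lt (nat_lit 7)) (.mul (.lt (nat_lit 0)) (.mul (.lt (nat_lit 4)) (.mul (.lt (nat_lit 1)) (.mul (.lt (nat_lit 3)) (.mul (.lt (nat_lit 7)) (.mul (.lt (nat_lit 3)) (.mul (.lt (nat_lit 5)) (.mul (.lt (nat_lit 6))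 (.mul (.lt (nat_lit 2)) (.mul (.lt (nat_lit 1)) (.mul (.lt (nat_lit 4)) (.mul (.lt (nat_lit 3)) (.mul (.lt (nat_lit 5)) (.mul (.lt (nat_lit 1)) (.lt (nat_lit 1))))))))))))))))))))))))))))))))))))))))))))))))))))))))))))))))))))))))))))))))))))))))))))))))))))))))))))))

/-- the element of order four -/
def bM : PE := .mul (.lt (nat_lit 7)) (.mul (.lt (nat_lit 5)) (.mul (.lt (nat_lit 7)) (.mul (.lt (nat_lit 1)) (.mul (.lt (nat_lit 1)) (.mul (.lt (nat_lit 4)) (.mul (.lt (nat_lit 2)) (.mul (.lt (nat_lit 6)) (.mul (.lt (nat_lit 3)) (.mul (.lt (nat_lit 7)) (.mul (.lt (nat_lit 1)) (.mul (.lt (nat_lit 2)) (.mul (.lt (nat_lit 1)) (.mul (.lt (nat_lit 6)) (.mul (.lt (nat_lit 0)) (.mul (.lt (nat_lit 4)) (.mul (.lt (nat_lit 5)) (.mul (.lt (nat_lit 3)) (.mul (.lt (nat_lit 2)) (.mul (.lt (nat_lit 3)) (.mul (.lt (nat_lit 5)) (.mul (.lt (nat_lit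 3)) (.mul (.lt (nat_lit 7)) (.mul (.lt (nat_lit 3)) (.mul (.lt (nat_lit 0)) (.mul (.lt (nat_lit 6)) (.mul (.lt (nat_lit 4)) (.mul (.lt (nat_lit 5)) (.mul (.lt (nat_lit 3)) (.mul (.lt (nat_lit 4)) (.mul (.lt (nat_lit 1)) (.mul (.lt (nat_lit 2)) (.mul (.lt (nat_lit 3)) (.mul (.lt (nat_lit 5)) (.mul (.lt (nat_lit 0)) (.mul (.lt (nat_lit 2)) (.mul (.lt (nat_lit 4)) (.mul (.lt (nat_lit 0)) (.mul (.lt (nat_lit 2)) (.mul (.lt (nat_lit 0)) (.mul (.lt (nat_lit 3)) (.mul (.lt (nat_lit 4)) (.mul (.lt (nat_lit 2)) (.mul (.lt (nat_lit 3)) (.mul (.lt (nat_lit 4)) (.mul (.lt (nat_lit 5)) (.mul (.lt (nat_lit 3)) (.mul (.lt (nat_lit 5)) (.mul (.lt (nat_lit 6)) (.mul (.lt (nat_lit 7)) (.mul (.lt (nat_lit 1)) (.mul (.lt (nat_lit 5)) (.mul (.lt (nat_lit 1)) (.mul (.lt (nat_lit 6)) (.mul (.lt (nat_lit 4)) (.mul (.lt (nat_lit 0)) (.mul (.lt (nat_lit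 0)) (.mul (.lt (nat_lit 3)) (.mul (.lt (nat_lit 0)) (.mul (.lt (nat_lit 0)) (.mul (.lt (nat_lit 4)) (.mul (.lt (nat_lit 6)) (.mul (.lt (nat_lit 4)) (.mul (.lt (nat_lit 3)) (.mul (.lt (nat_lit 5)) (.mul (.lt (nat_lit 1)) (.mul (.lt (nat_lit 5)) (.mul (.lt (nat_lit 0)) (.mul (.lt (nat_lit 5)) (.mul (.lt (nat_lit 0)) (.mul (.lt (nat_lit 0)) (.mul (.lt (nat_lit 5)) (.mul (.lt (nat_lit 3)) (.mul (.lt (nat_lit 4)) (.mul (.lt (nat_lit 6)) (.mul (.lt (nat_lit 4)) (.mul (.lt (nat_lit 1)) (.mul (.lt (nat_lit 1)) (.mul (.lt (nat_lit 3)) (.mul (.lt (nat_lit 1)) (.mul (.lt (nat_lit 1)) (.mul (.lt (nat_lit 4)) (.mul (.lt (nat_lit 6)) (.mul (.lt (nat_lit 0)) (.mul (.lt (nat_lit 5)) (.mul (.lt (nat_lit 0)) (.mul (.lt (nat_lit 7)) (.mul (.lt (nat_lit 6)) (.mul (.lt (nat_lit 5)) (.mul (.lt (nat_lit 3)) (.mul (.lt (nat_lit 5)) (.mul (.lt (nat_lit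 4)) (.mul (.lt (nat_lit 3)) (.mul (.lt (nat_lit 2)) (.mul (.lt (nat_lit 4)) (.mul (.lt (nat_lit 3)) (.mul (.lt (nat_lit 1)) (.mul (.lt (nat_lit 2)) (.mul (.lt (nat_lit 1)) (.mul (.lt (nat_lit 4)) (.mul (.lt (nat_lit 2)) (.mul (.lt (nat_lit 1)) (.mul (.lt (nat_lit 5)) (.mul (.lt (nat_lit 3)) (.mul (.lt (nat_lit 2)) (.mul (.lt (nat_lit 0)) (.mul (.lt (nat_lit 4)) (.mul (.lt (nat_lit 3)) (.mul (.lt (nat_lit 5)) (.mul (.lt (nat_lit 4)) (.mul (.lt (nat_lit 6)) (.mul (.lt (nat_lit 1)) (.mul (.lt (nat_lit 3)) (.mul (.lt (nat_lit 7)) (.mul (.lt (nat_lit 3)) (.mul (.lt (nat_lit 5)) (.mul (.lt (nat_lit 3)) (.mul (.lt (nat_lit 2)) (.mul (.lt (nat_lit 3)) (.mul (.lt (nat_lit 5)) (.mul (.lt (nat_lit 4)) (.mul (.lt (nat_lit 1)) (.mul (.lt (nat_lit 6)) (.mul (.lt (nat_lit 0)) (.mul (.lt (nat_lit 2)) (.mul (.lt (nat_lit 0)) (.mul (.lt (nat_lit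 7)) (.mul (.lt (nat_lit 3)) (.mul (.lt (nat_lit 6)) (.mul (.lt (nat_lit 2)) (.mul (.lt (nat_lit 4)) (.mul (.lt (nat_lit 0)) (.mul (.lt (nat_lit 0)) (.mul (.lt (nat_lit 7)) (.mul (.lt (nat_lit 5)) (.lt (nat_lit 7))))))))))))))))))))))))))))))))))))))))))))))))))))))))))))))))))))))))))))))))))))))))))))))))))))))))))))))))))))))))))))))))))))))))

/-- a word of the relators -/
def uJ : PE := .mul (.mul (.mul aP bJ) aP) (.inv bJ)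

theorem j1 : eqOn (ev0 ONT.cfg) (aP.pw 2) .one (0 :: ONC.ls.map (·.b)) = true := by decide +kernel
theorem j2 : eqOn (ev0 ONT.cfg) (bJ.pw 3) .one (0 :: ONC.ls.map (·.b)) = true := by decide +kernel
theorem j3 : eqOn (ev0 ONT.cfg) ((PE.mul aP bJ).pw 7) .one (0 :: ONC.ls.map (·.b)) = true := by decide +kernel
theorem j4 : eqOn (ev0 ONT.cfg) (PE.pw (PE.mul (PE.mul aP bJ) (uJ.pw 3)) 5) .one (0 :: ONC.ls.map (·.b)) = true := by decide +kernel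
theorem j5 : eqOn (ev0 ONT.cfg) (PE.pw (PE.mul (PE.mul (PE.mul (PE.mul (PE.mul (PE.mul (PE.mul aP bJ) (uJ.pw 6)) aP) bJ) aP) bJ) ((PE.mul aP (.inv bJ)).pw 2)) 2) .one (0 :: ONC.ls.map (·.b)) = true := by decide +kernel
theorem m1 : eqOn (ev0 ONT.cfg) (aP.pw 2) .one (0 :: ONC.ls.map (·.b)) = true := by decide +kernel
theorem m2 : eqOn (ev0 ONT.cfg) (bM.pw 4) .one (0 :: ONC.ls.map (·.b)) = true := by decide +kernel
theorem m3 : eqOn (ev0 ONT.cfg) ((PE.mul aP bM).pw 11) .one (0 :: ONC.ls.map (·.b)) = true := by decide +kernel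
theorem m4 : eqOn (ev0 ONT.cfg) ((PE.mul aP (bM.pw 2)).pw 6) .one (0 :: ONC.ls.map (·.b)) = true := by decide +kernel
theorem m5 : eqOn (ev0 ONT.cfg) (PE.mul (PE.mul (PE.mul (PE.mul (PE.mul (PE.mul (PE.mul (PE.mul (PE.mul (PE.mul (PE.mul (PE.mul (PE.mul (PE.mul (PE.mul (PE.mul (PE.mul aP bM) aP) bM) aP) (.inv bM)) aP) bM) aP) (bM.pw 2)) aP) (.inv bM)) aP) bM) aP) (.inv bM)) aP) (.inv bM)) .one (0 :: ONC.ls.map (·.b)) = true := by decide +kernel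

end Cfsg.Agent.Lib.Compute.TC.ONSubD
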